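import Cfsg.Agent.S0731
import Cfsg.Agent.S0261
import Cfsg.Agent.Known.PSL2Basic
import Cfsg.Agent.Local.BaerSuzuki
import Cfsg.Agent.Local.KleinDich
import Cfsg.Agent.Bender.LemX5
import Cfsg.Agent.Class.SL2Dickson

/-! Transitive affine groups in characteristic two whose point stabiliser has odd order and
contains a normal Singer cycle. -/

set_option autoImplicit false

namespace Cfsg.Lib.ZL

open Subgroup MulAction Trans
open scoped MatrixGroups

/-- dihedral coordinates -/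
structure Dih {G : Type*} [Group G] (D : Subgroup G) (r a : G) : Prop where
  rD : r ∈ D
  aD : a ∈ D
  aa : a * a = 1
  ar : a * r * a⁻¹ = r⁻¹
  mem : ∀ x ∈ D, x ∈ zpowers r ∨ a * x ∈ zpowers r
  out : a ∉ zpowers r
  ne : r ≠ 1

theorem Dih.map {G H : Type*} [Group G] [Group H] {D : Subgroup G} {r a : G} (h : Dih D r a)
    (f : G →* H) (hf : ∀ x ∈ D, f x = 1 → x = 1) : Dih (D.map f) (f r) (f a) where
  rD := ⟨r, h.rD, rfl⟩
  aD := ⟨a, h.aD, rfl⟩
  aa := by rw [← map_mul, h.aa, map_one]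
  ar := by rw [← map_inv, ← map_mul, ← map_mul, h.ar, map_inv]
  mem := by
    rintro _ ⟨x, hx, rfl⟩
    rw [← map_mul, ← MonoidHom.map_zpowers]
    exact (h.mem x hx).imp (mem_map_of_mem f) (mem_map_of_mem f)
  out := fun ⟨i, hi⟩ => h.out ⟨i, mul_inv_eq_one.1 (hf _ (mul_mem (zpow_mem h.rD i) (inv_mem h.aD))
    (by simpa [mul_inv_eq_one] using hi))⟩
  ne := fun e => h.ne (hf r h.rD e)

theorem exists_dih {F : Type*} [Field F] [Fintype F] (hF : Odd (Fintype.card F))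
    {P : Subgroup PSL(2, F)} (hP : IsSylowIn 2 P ⊤) : ∃ r a, Dih P r a := by
  have h2 : (2 : F) ≠ 0 := Known.GL2.two_ne_zero_of_odd hF
  have hk : ∀ g : SL(2, F), Known.GL2.piSL F g = 1 ↔ g * g = 1 := fun g => by
    rw [← map_one (Known.GL2.piSL F), Known.GL2.piSL_eq_iff]
    refine ⟨by rintro (rfl | rfl) <;> simp, fun e => ?_⟩
    exact (Class.sl2_center_cases (Class.mem_center_of_sq_eq_one h2 (by rw [sq, e]))).imp
      Subtype.ext Subtype.ext
  obtain ⟨Q, hQ⟩ := (hP.comap (Known.GL2.piSL F) (fun g => ⟨1, Subtype.ext (by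
    simpa [sq] using (hk g).1 g.2)⟩) (fun x _ => Known.GL2.piSL_surjective x)).exists_sylow_eq
  obtain ⟨k, hk1, ⟨e⟩⟩ := Agent.S0261.result hF Q
  let f := (Known.GL2.piSL F).comp ((Q : Subgroup SL(2, F)).subtype.comp e.symm.toMonoidHom)
  have hf : ∀ x, f x = 1 ↔ x * x = 1 := fun x => (hk _).trans (by
    rw [← map_mul]
    exact map_eq_one_iff ((Q : Subgroup SL(2, F)).subtype.comp e.symm.toMonoidHom)
      fun a b h => e.symm.injective (Subtype.ext h))
  have hm : ∀ x, f x ∈ P := fun x => (hQ.le (e.symm x).2 :)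
  have h5 : ((2 ^ k : ℕ) : ZMod (2 * 2 ^ k)) + (2 ^ k : ℕ) = 0 := by
    rw [← Nat.cast_add, ← two_mul, ZMod.natCast_self]
  have hz : ∀ i, f (.a i) ∈ zpowers (f (.a 1)) := fun i => by
    rw [← ZMod.natCast_zmod_val i, ← QuaternionGroup.a_one_pow, map_pow]
    exact pow_mem (mem_zpowers _) _
  refine ⟨f (.a 1), f (.xa 0), hm _, hm _, ?_, ?_, fun x hx => ?_, fun ⟨i, hi⟩ => ?_, fun e => ?_⟩
  · rw [← map_mul, hf]
    rw [QuaternionGroup.xa_mul_xa, QuaternionGroup.a_mul_a, add_zero, sub_zero, h5]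
    rfl
  · rw [mul_inv_eq_iff_eq_mul, eq_inv_mul_iff_mul_eq, ← map_mul, ← map_mul]
    simp
  · obtain ⟨g, rfl⟩ := Known.GL2.piSL_surjective x
    have : Known.GL2.piSL F g = f (e ⟨g, hQ.ge hx⟩) := by simp [f]
    rw [this, ← map_mul]
    rcases e ⟨g, hQ.ge hx⟩ with i | i
    exacts [.inl (hz i), .inr (hz _)]
  · obtain ⟨j, hj⟩ : ∃ j, (QuaternionGroup.a 1 : QuaternionGroup (2 ^ k)) ^ i = .a j := by
      obtain ⟨m, hm⟩ := (mem_powers_iff_mem_zpowers).2 (zpow_mem_zpowers (QuaternionGroup.a 1 :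
        QuaternionGroup (2 ^ k)) i)
      exact ⟨m, hm ▸ QuaternionGroup.a_one_pow m⟩
    have : f (.xa 0 * (.a j)⁻¹) = 1 := by rw [map_mul, map_inv, ← hj, map_zpow]; simp [← hi]
    rw [hf] at this
    have := orderOf_dvd_of_pow_eq_one ((sq _).trans this)
    rw [show (QuaternionGroup.xa 0 * (.a j)⁻¹ : QuaternionGroup (2 ^ k)) = .xa (0 + -j) from rfl,
      QuaternionGroup.orderOf_xa] at this
    omega
  · have := orderOf_dvd_of_pow_eq_one ((sq _).trans ((hf _).1 e))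
    rw [QuaternionGroup.orderOf_a_one] at this
    have := Nat.le_of_dvd two_pos this
    have := Nat.pow_le_pow_right two_pos hk1
    omega

/-- a transitive affine group with point stabilisers of odd order -/
structure Aff (X U : Type*) [Group X] [Group U] [MulAction X U] : Prop where
  sq : ∀ u : U, u * u = 1
  aff : ∀ (g : X) (a b : U), g • (a * b) * g • (1 : U) = g • a * g • b
  tr : ∀ u : U, ∃ g : X, g • (1 : U) = u
  odd : ∀ g : X, g • (1 : U) = 1 → g * g = 1 → g = 1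

/-- a normal Singer cycle in the point stabiliser -/
structure Sing {X : Type*} (U : Type*) [Group X] [Group U] [MulAction X U] (Z : Subgroup X) :
    Prop where
  fix : ∀ z ∈ Z, z • (1 : U) = 1
  comm : ∀ z ∈ Z, ∀ z' ∈ Z, z * z' = z' * z
  norm : ∀ y : X, y • (1 : U) = 1 → ∀ z ∈ Z, y * z * y⁻¹ ∈ Z
  tr : ∀ u v : U, u ≠ 1 → v ≠ 1 → ∃ z ∈ Z, z • u = v
  ab : ∀ u : U, u ≠ 1 → ∀ y y' : X, y • (1 : U) = 1 → y • u = u → y' • (1 : U) = 1 → y' • u = u →
    y * y' = y' * y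
  three : ∀ u : U, u ≠ 1 → ∀ y : X, y • (1 : U) = 1 → y • u = u → (orderOf y).Prime →
    (∀ v : U, y • v = v → v = 1 ∨ v = u) → ∀ g : X, g • (1 : U) = 1 → g • u = u →
      ∀ v : U, g • v = v → v ≠ 1 → v ≠ u → g = 1

variable {X U : Type*} [Group X] [Group U] [MulAction X U] {Z : Subgroup X}

theorem Aff.comm (h : Aff X U) (a b : U) : a * b = b * a :=
  Local.comm_of_mul_self (V := ⊤) (fun v _ => h.sq v) trivial trivial

theorem Aff.inv (h : Aff X U) (a : U) : a⁻¹ = a := inv_eq_of_mul_eq_one_right (h.sq a)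

theorem Aff.odd' (h : Aff X U) {g : X} {a : U} (h1 : g • a = a) (h2 : g * g = 1) : g = 1 := by
  obtain ⟨k, rfl⟩ := h.tr a
  exact conj_eq_one_iff.1 (h.odd (k⁻¹ * g * k⁻¹⁻¹) (by simp [mul_smul, h1])
    (by rw [conj_mul, h2]; simp))

theorem Aff.two (h : Aff X U) (hZ : Sing U Z) {a b c d : U} (h1 : a ≠ b) (h2 : c ≠ d) :
    ∃ g : X, g • a = c ∧ g • b = d := by
  obtain ⟨k, rfl⟩ := h.tr a
  obtain ⟨l, rfl⟩ := h.tr c
  obtain ⟨z, hz, e⟩ := hZ.tr (k⁻¹ • b) (l⁻¹ • d) (fun e => h1 (inv_smul_eq_iff.1 e).symm)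
    fun e => h2 (inv_smul_eq_iff.1 e).symm
  exact ⟨l * z * k⁻¹, by simp [mul_smul, hZ.fix z hz], by simp [mul_smul, e]⟩

theorem Sing.reg [FaithfulSMul X U] (hZ : Sing U Z) {z z' : X} (hz : z ∈ Z) (hz' : z' ∈ Z) {u : U}
    (hu : u ≠ 1) (e : z • u = z' • u) : z = z' := eq_of_smul_eq_smul fun v : U => by
  by_cases hv : v = 1
  · rw [hv, hZ.fix z hz, hZ.fix z' hz']
  · obtain ⟨w, hw, rfl⟩ := hZ.tr u v hu hv
    rw [← mul_smul, ← mul_smul, hZ.comm z hz w hw, hZ.comm z' hz' w hw, mul_smul, mul_smul, e]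

theorem Aff.all_tr (h : Aff X U) (hZ : ∀ u v : U, u ≠ 1 → v ≠ 1 → ∃ z : X, z • (1 : U) = 1 ∧ z • u = v)
    {g : X} (hg : ∀ a : U, g • a = g • (1 : U) * a) (h1 : g • (1 : U) ≠ 1) (u : U) :
    ∃ g : X, ∀ a, g • a = u * a := by
  by_cases hu : u = 1
  · exact ⟨1, by simp [hu]⟩
  obtain ⟨z, h2, h3⟩ := hZ _ u h1 hu
  refine ⟨z * g * z⁻¹, fun a => ?_⟩
  have := h.aff z (g • (1 : U)) (z⁻¹ • a)
  rwa [h2, h3, mul_one, smul_inv_smul, ← hg, ← mul_smul, ← mul_smul] at this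

variable [Finite X] [Finite U]

theorem Aff.pgroup (h : Aff X U) : IsPGroup 2 U := fun u => ⟨1, by simpa [_root_.sq] using h.sq u⟩

theorem Aff.eq_bot (h : Aff X U) (hZ : Sing U Z) [Nontrivial U]
    (hK : ∀ g : X, (∀ a : U, g • a = g • (1 : U) * a) → g = 1) {Q : Subgroup X} [hn : Q.Normal]
    (hQ : IsPGroup 2 Q) : Q = ⊥ := by
  have e : ∀ (g : X) (a : U), g • (a * g⁻¹ • (1 : U)) = g • a * g • (1 : U) := fun g a => by
    rw [← mul_left_inj (g • (1 : U)), h.aff, smul_inv_smul, mul_assoc, h.sq]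
  obtain ⟨k, hk⟩ := h.pgroup.exists_card_eq
  obtain ⟨u, hu, hu'⟩ := @IsPGroup.exists_fixed_point_of_prime_dvd_card_of_fixed_point 2 Q _ hQ _
    U { smul := fun q a => (q : X) • a * (q : X) • (1 : U)
        one_smul := fun a => by change (1 : X) • a * (1 : X) • (1 : U) = a; simp
        mul_smul := fun p q a => by
          change ((p : X) * q) • a * ((p : X) * q) • (1 : U) =
            (p : X) • ((q : X) • a * (q : X) • (1 : U)) * (p : X) • (1 : U)
          rw [h.aff, mul_smul, mul_smul] } _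
    (hk ▸ dvd_pow_self 2 fun e => by
      have := Finite.one_lt_card (α := U)
      simp [hk, e] at this) 1 fun q => h.sq _
  refine eq_bot_iff.2 fun q hq => hK q fun a => ?_
  by_cases ha : a = 1
  · simp [ha]
  obtain ⟨z, hz, rfl⟩ := hZ.tr u a hu'.symm ha
  have h1 : (z⁻¹ * q * z) • u * (z⁻¹ * q * z) • (1 : U) = u := hu ⟨_, by simpa using hn.conj_mem q hq z⁻¹⟩
  have h2 := h.aff z ((z⁻¹ * q * z) • u) ((z⁻¹ * q * z) • (1 : U))
  rw [h1, hZ.fix z hz, mul_one, ← mul_smul, ← mul_smul z _ 1, show z * (z⁻¹ * q * z) = q * z by group,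
    mul_smul, mul_smul, hZ.fix z hz] at h2
  rw [← mul_left_inj (q • (1 : U)), ← h2, h.comm, ← mul_assoc, h.sq, one_mul]

theorem Aff.exists_inv (h : Aff X U) (hZ : Sing U Z) [Nontrivial U]
    (hK : ∀ g : X, (∀ a : U, g • a = g • (1 : U) * a) → g = 1) :
    ∃ i y : X, i * i = 1 ∧ i ≠ 1 ∧ (orderOf y).Prime ∧ orderOf y ≠ 2 ∧ i * y * i⁻¹ = y⁻¹ ∧
      y • (1 : U) = 1 := by
  obtain ⟨k, hk⟩ := h.pgroup.exists_card_eq
  have : IsPretransitive X U := IsPretransitive.of_orbit (x₀ := 1) h.tr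
  obtain ⟨i, hi⟩ := exists_prime_orderOf_dvd_card' (G := X) 2 ((hk ▸ dvd_pow_self 2 fun e => by
      have := Finite.one_lt_card (α := U)
      simp [hk, e] at this : 2 ∣ Nat.card U).trans (index_stabilizer_of_transitive X (1 : U) ▸
        index_dvd_card _))
  have i1 : i ≠ 1 := by rintro rfl; simp at hi
  have i2 : i * i = 1 := by rw [← _root_.sq, ← hi, pow_orderOf_eq_one]
  obtain ⟨g, hg⟩ : ∃ g, ∀ k, (i * (g * i * g⁻¹)) ^ 2 ^ k ≠ 1 := by
    by_contra! h1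
    exact i1 (mem_bot.1 (h.eq_bot hZ hK (Local.baer_suzuki_elem i fun g => (h1 g).elim fun k hk =>
      Bender.LemX.isPGroup_pair i2 (by rw [conj_mul, i2]; simp) hk) ▸ subset_normalClosure rfl))
  obtain ⟨c, hc⟩ : ∃ c, c = i * (g * i * g⁻¹) := ⟨_, rfl⟩
  have h2 : i * c * i⁻¹ = c⁻¹ := by
    rw [hc, mul_inv_rev, conj_inv, inv_eq_of_mul_eq_one_right i2, ← mul_assoc, i2, one_mul]
  obtain ⟨l, m, ⟨j, rfl⟩, e⟩ := Nat.exists_eq_two_pow_mul_odd (orderOf_pos c).ne'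
  obtain ⟨p, hp, m, hm⟩ := Nat.exists_prime_and_dvd (n := 2 * j + 1) fun e' => hg l (by
    rw [← hc, ← mul_one (2 ^ l), ← e', ← e, pow_orderOf_eq_one])
  have h3 : orderOf (c ^ (2 ^ l * m)) = p := by
    rw [orderOf_pow_of_dvd (by rintro e'; simp at e'; simp [e'] at hm) (e ▸ hm ▸ by
      exact mul_dvd_mul_left _ (dvd_mul_left m p)), e, hm, mul_comm p, ← mul_assoc,
      Nat.mul_div_cancel_left _ (Nat.pos_of_ne_zero (by rintro e'; simp at e'; simp [e'] at hm))]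
  have h4 : p ≠ 2 := by rintro rfl; omega
  have := Fact.mk hp
  obtain ⟨a, ha⟩ := (IsPGroup.of_card (G := zpowers (c ^ (2 ^ l * m))) (p := p) (n := 1) (by
    rw [Nat.card_zpowers, h3, pow_one])).nonempty_fixed_point_of_prime_not_dvd_card U (by
      rw [hk]; exact fun e => h4 ((Nat.prime_dvd_prime_iff_eq hp Nat.prime_two).1 (hp.dvd_of_dvd_pow e)))
  obtain ⟨w, rfl⟩ := h.tr a
  have h5 : orderOf (w⁻¹ * c ^ (2 ^ l * m) * w⁻¹⁻¹) = p := by
    rw [← h3]; exact (MulAut.conj w⁻¹).orderOf_eq _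
  refine ⟨w⁻¹ * i * w⁻¹⁻¹, _, by rw [conj_mul, i2]; simp, mt conj_eq_one_iff.1 i1, h5 ▸ hp, h5 ▸ h4,
    ?_, ?_⟩
  · rw [conj_inv, conj_mul, conj_mul, ← conj_pow, h2, inv_pow, conj_inv]
  · rw [mul_smul, mul_smul, inv_inv, show c ^ (2 ^ l * m) • w • (1 : U) = w • (1 : U) from
      ha ⟨_, mem_zpowers _⟩, inv_smul_smul]

omit [Group U] [Finite U] in
theorem i3 {a b c : U} (h1 : a ≠ b) (h2 : b ≠ c) (h3 : a ≠ c) : Function.Injective ![a, b, c] := by
  intro m n e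
  fin_cases m <;> fin_cases n <;> simp_all

theorem Aff.cases [FaithfulSMul X U] (h : Aff X U) (hZ : Sing U Z) (h3 : 2 < Nat.card U)
    (hK : ∀ g : X, (∀ a : U, g • a = g • (1 : U) * a) → g = 1) :
    ∃ (K : Type) (_ : Field K) (_ : Fintype K), Odd (Fintype.card K) ∧ Nonempty (X ≃* PSL(2, K)) := by
  have : Nontrivial U := Finite.one_lt_card_iff_nontrivial.1 (by omega)
  obtain ⟨i, y, i2, i1, hp, hp2, e, y1⟩ := h.exists_inv hZ hK
  have ii : i⁻¹ = i := inv_eq_of_mul_eq_one_right i2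
  obtain ⟨u, hu⟩ : ∃ u, u = i • (1 : U) := ⟨_, rfl⟩
  have u1 : u ≠ 1 := fun e => i1 (h.odd i (hu ▸ e) i2)
  have iu : i • u = 1 := by rw [hu, ← mul_smul, i2, one_smul]
  have e' : y * i = i * y⁻¹ := by rw [← e, ii, ← mul_assoc, ← mul_assoc, i2, one_mul]
  have y2 : y * y ≠ 1 := fun e => hp2 ((Nat.prime_dvd_prime_iff_eq hp Nat.prime_two).1
    (orderOf_dvd_of_pow_eq_one ((_root_.sq y).trans e)))
  have hi : ∀ v : U, y • v = v → y • i • v = i • v := fun v hv => by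
    rw [← mul_smul, e', mul_smul, inv_smul_eq_iff.2 hv.symm]
  have yu : y • u = u := hu ▸ hi 1 y1
  have c1 : ∀ a b : U, y • a = a → y • b = b → a ≠ 1 → b ≠ 1 →
      ∃ z : X, Commute z y ∧ z • (1 : U) = 1 ∧ z • a = b := fun a b ha hb a1 b1 => by
    obtain ⟨z, hz, e⟩ := hZ.tr a b a1 b1
    exact ⟨z, (mul_inv_eq_iff_eq_mul.1 (hZ.reg (hZ.norm y y1 z hz) hz a1 (by
      rw [mul_smul, mul_smul, inv_smul_eq_iff.2 ha.symm, e, hb]))).symm, hZ.fix z hz, e⟩
  have hy : ∀ v : U, y • v = v → v = 1 ∨ v = u := fun v hv => by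
    by_contra! h1
    obtain ⟨z2, a1, a2, a3⟩ := c1 u (i • v) yu (hi v hv) u1
      fun e => h1.2 (by rw [hu, ← e, ← mul_smul, i2, one_smul])
    obtain ⟨z1, b1, b2, b3⟩ := c1 v u hv yu h1.1 u1
    have a4 : Commute (i * z2 * i⁻¹) y := by simpa [e] using (a1.conj i).inv_right
    have a5 : (z1 * (i * z2 * i⁻¹)) • (1 : U) = u := by
      rw [mul_smul, mul_smul, mul_smul, ii, ← hu, a3, ← mul_smul i, i2, one_smul, b3]
    have a6 := b1.mul_left a4
    generalize z1 * (i * z2 * i⁻¹) = j at a5 a6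
    obtain ⟨z3, d1, d2, d3⟩ := c1 u (j⁻¹ • (1 : U)) yu (by rw [← mul_smul, ← a6.inv_left.eq, mul_smul, y1])
      u1 fun e => u1 (by rw [← a5, ← e, smul_inv_smul, e])
    have d4 : Commute (i * (j * z3)) y := hZ.ab u u1 _ _ (by rw [mul_smul, mul_smul, d2, a5, iu])
      (by rw [mul_smul, mul_smul, d3, smul_inv_smul, hu]) y1 yu
    have d5 : Commute i y := by simpa [mul_assoc] using d4.mul_left (a6.mul_left d1).inv_left
    exact y2 (mul_eq_one_iff_eq_inv.2 (mul_left_cancel (d5.eq.trans e')))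
  have t3 : ∀ (g : X) (a b c : U), a ≠ b → b ≠ c → a ≠ c → g • a = a → g • b = b → g • c = c →
      g = 1 := fun g a b c ab bc ac ga gb gc => by
    obtain ⟨k, rfl, rfl⟩ := h.two hZ u1.symm ab
    exact conj_eq_one_iff.1 (hZ.three u u1 y y1 yu hp hy (k⁻¹ * g * k⁻¹⁻¹) (by simp [mul_smul, ga])
      (by simp [mul_smul, gb]) (k⁻¹ • c) (by simp [mul_smul, gc])
      (fun e => ac (inv_smul_eq_iff.1 e).symm) fun e => bc (inv_smul_eq_iff.1 e).symm)
  obtain ⟨k, hk⟩ := h.pgroup.exists_card_eq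
  have t4 : ∀ N : Subgroup X, N.Normal → IsPretransitive N U → ∃ a : U, stabilizer N a ≠ ⊥ :=
    fun N hN hN' => ⟨1, fun e => by
      have h1 := index_stabilizer_of_transitive N (1 : U)
      rw [e, index_bot, hk] at h1
      obtain rfl := h.eq_bot hZ hK (IsPGroup.of_card h1)
      obtain ⟨g, hg⟩ := hN'.exists_smul_eq 1 u
      rw [Subsingleton.elim g 1, one_smul] at hg
      exact u1 hg.symm⟩
  rcases Agent.S0731.result (G := X) (Ω := U) ⟨inferInstance, is_two_pretransitive_iff.2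
      fun h1 h2 => h.two hZ h1 h2, t3, ⟨y, by rintro rfl; simp at y2, 1, u, u1.symm, y1, yu⟩, t4⟩ 1 Z hZ.fix
      ⟨fun z hz g => hZ.norm g g.2 z hz⟩ ⟨⟨fun a b => Subtype.ext (hZ.comm _ a.2 _ b.2)⟩⟩
      (fun a b ha hb => (hZ.tr a b ha hb).elim fun z hz => ⟨⟨z, hz.1⟩, hz.2, fun z' hz' =>
        Subtype.ext (hZ.reg z'.2 hz.1 ha (hz'.trans hz.2.symm))⟩) with ⟨h1, -⟩ | ⟨K, _, _, h1, h2⟩
  · obtain ⟨v, hv⟩ : ∃ v : U, v ∉ ({1, u} : Set U) := by
      by_contra! h2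
      have := Set.ncard_le_ncard (s := Set.univ) (fun v _ => h2 v)
      rw [Set.ncard_univ, Set.ncard_pair u1.symm] at this
      omega
    simp only [Set.mem_insert_iff, Set.mem_singleton_iff, not_or] at hv
    obtain ⟨g, hg⟩ := h1.exists_smul_eq ⟨![1, u, v], i3 u1.symm (Ne.symm hv.2) (Ne.symm hv.1)⟩
      ⟨![1, v, u], i3 (Ne.symm hv.1) hv.2 u1.symm⟩
    have g0 : g • (1 : U) = 1 := DFunLike.congr_fun hg 0
    have g1 : g • u = v := DFunLike.congr_fun hg 1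
    have g2 : g • v = u := DFunLike.congr_fun hg 2
    rw [h.odd g g0 (t3 _ 1 u v u1.symm (Ne.symm hv.2) (Ne.symm hv.1) (by rw [mul_smul, g0, g0])
      (by rw [mul_smul, g1, g2]) (by rw [mul_smul, g2, g1])), one_smul] at g1
    exact (hv.2 g1.symm).elim
  · exact ⟨K, _, _, FiniteField.odd_card_of_char_ne_two h1 |> Nat.odd_iff.2, h2⟩

/-- the exceptional configuration -/
structure Exc (X U : Type*) [Group X] [Group U] [MulAction X U] : Prop where
  nt : ∀ g : X, (∀ a : U, g • a = g • (1 : U) * a) → g = 1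
  cj : ∀ a b : X, orderOf a = 2 → orderOf b = 2 → IsConj a b
  dih : ∀ P : Subgroup X, IsSylowIn 2 P ⊤ → ∃ r a, Dih P r a

theorem Aff.box [FaithfulSMul X U] (h : Aff X U) (hZ : Sing U Z) (h3 : 2 < Nat.card U) :
    (∀ u : U, ∃ g : X, ∀ a, g • a = u * a) ∨ Exc X U := by
  by_cases hK : ∀ g : X, (∀ a : U, g • a = g • (1 : U) * a) → g = 1
  · obtain ⟨K, _, _, h1, ⟨e⟩⟩ := h.cases hZ h3 hK
    refine .inr ⟨hK, fun a b ha hb => ?_, fun P hP => ?_⟩
    · simpa using e.symm.toMonoidHom.map_isConj (Known.GL2.isConj_of_orderOf_two_PSL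
        ((e.orderOf_eq a).trans ha) ((e.orderOf_eq b).trans hb))
    · obtain ⟨r, a, h2⟩ := exists_dih h1 (P := P.map e.toMonoidHom)
        (map_top_of_surjective e.toMonoidHom e.surjective ▸ hP.map _)
      have := h2.map e.symm.toMonoidHom fun x _ => (map_eq_one_iff _ e.symm.injective).1
      rw [map_map, show e.symm.toMonoidHom.comp e.toMonoidHom = .id X by ext; simp, map_id] at this
      exact ⟨_, _, this⟩
  · push Not at hK
    obtain ⟨g, h1, h2⟩ := hK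
    exact .inl (h.all_tr (fun u v hu hv => (hZ.tr u v hu hv).imp fun z hz => ⟨hZ.fix z hz.1, hz.2⟩) h1
      fun e => h2 (eq_of_smul_eq_smul fun a : U => by rw [h1, e, one_mul, one_smul]))

theorem mem_four (h2 : ∀ u : U, u * u = 1) (h4 : Nat.card U = 4) {u a : U} (hu : u ≠ 1) (a1 : a ≠ 1)
    (au : a ≠ u) (x : U) : x = 1 ∨ x = u ∨ x = a ∨ x = u * a := by
  classical
  have e1 : u * a ≠ 1 := fun e => au (mul_left_cancel (e.trans (h2 u).symm))
  have := Fintype.ofFinite U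
  have : ({1, u, a, u * a} : Finset U) = Finset.univ := Finset.eq_univ_of_card _ (by
    rw [← Nat.card_eq_fintype_card, h4, Finset.card_eq_four]
    exact ⟨_, _, _, _, hu.symm, a1.symm, e1.symm, au.symm, by simpa, by simpa, rfl⟩)
  simpa using this.ge (Finset.mem_univ x)

theorem Aff.four (h : Aff X U) (h4 : Nat.card U = 4)
    (hZ : ∀ u v : U, u ≠ 1 → v ≠ 1 → ∃ z : X, z • (1 : U) = 1 ∧ z • u = v) (u : U) :
    ∃ g : X, ∀ a, g • a = u * a := by
  have : IsPretransitive X U := IsPretransitive.of_orbit (x₀ := 1) h.tr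
  obtain ⟨i, hi⟩ := exists_prime_orderOf_dvd_card' (G := X) 2 ((by rw [h4]; decide : 2 ∣ Nat.card U).trans
    (index_stabilizer_of_transitive X (1 : U) ▸ index_dvd_card _))
  have i2 : i * i = 1 := by rw [← _root_.sq, ← hi, pow_orderOf_eq_one]
  have nf : ∀ a : U, i • a ≠ a := fun a e => by simp [h.odd' e i2] at hi
  have ii : ∀ a : U, i • i • a = a := fun a => by rw [← mul_smul, i2, one_smul]
  refine h.all_tr hZ (g := i) (fun a => ?_) (nf 1) u
  by_cases a1 : a = 1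
  · simp [a1]
  by_cases au : a = i • 1
  · rw [au, ii, h.sq]
  rcases mem_four h.sq h4 (nf 1) a1 au (i • a) with e | e | e | e
  exacts [(au (by rw [← e, ii])).elim, (a1 (MulAction.injective i e)).elim, (nf a e).elim, e]

omit [Finite X] [Finite U] in
theorem Aff.sing [FaithfulSMul X U] (h : Aff X U) {F : Type*} [Field F] [Finite F] [CharP F 2]
    (φ : F ≃ U) (add : ∀ a b, φ (a + b) = φ a * φ b)
    (sc : ∀ c, c ≠ 0 → ∃ z : X, ∀ a, z • φ a = φ (c * a))
    (nm : ∀ y : X, y • (1 : U) = 1 → ∀ c, ∃ c', ∀ a b, y • φ a = φ b → y • φ (c * a) = φ (c' * b)) :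
    ∃ Z : Subgroup X, Sing U Z := by
  have p0 : φ 0 = 1 := by simpa using add 0 0
  have ext : ∀ {g g' : X}, (∀ a, g • φ a = g' • φ a) → g = g' := fun e =>
    eq_of_smul_eq_smul fun v : U => by simpa using e (φ.symm v)
  have n0 : ∀ {u : U}, u ≠ 1 → φ.symm u ≠ 0 := fun hu e => hu (by rw [← p0, ← e]; simp)
  let _ := ZMod.algebra F 2
  have gal : ∀ u : U, u ≠ 1 → ∀ y : X, y • (1 : U) = 1 → y • u = u → ∃ σ : F ≃ₐ[ZMod 2] F,
      ∀ x, y • φ (φ.symm u * x) = φ (φ.symm u * σ x) := fun u hu y y1 yu => by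
    obtain ⟨c, rfl⟩ := φ.surjective u
    have hc := n0 hu
    rw [φ.symm_apply_apply] at hc ⊢
    obtain ⟨f, hf⟩ : ∃ f : F → F, ∀ x, y • φ (c * x) = φ (c * f x) :=
      ⟨fun x => c⁻¹ * φ.symm (y • φ (c * x)), fun x => by simp [hc]⟩
    have inj : ∀ {a b}, φ (c * a) = φ (c * b) → a = b := fun e => mul_left_cancel₀ hc (φ.injective e)
    have f1 : f 1 = 1 := inj (by rw [← hf, mul_one, yu])
    let g : F →+* F :=
      { toFun := f
        map_one' := f1
        map_zero' := inj (by rw [← hf, mul_zero, p0, y1])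
        map_add' := fun a b => inj (by
          rw [← hf, mul_add, mul_add, add, add, ← hf, ← hf, ← h.aff, y1, mul_one])
        map_mul' := fun a b => inj (by
          obtain ⟨a', ha⟩ := nm y y1 a
          have h1 := ha _ _ (hf 1)
          rw [mul_one, mul_comm, hf, f1, mul_one, mul_comm a'] at h1
          rw [← hf, mul_left_comm, ha _ _ (hf b), ← inj h1, mul_left_comm]) }
    exact ⟨.ofRingEquiv (f := .ofBijective g g.injective.bijective_of_finite) fun x =>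
      RingHom.congr_fun (Subsingleton.elim (g.comp (algebraMap (ZMod 2) F)) (algebraMap (ZMod 2) F)) x, hf⟩
  have ext' : ∀ {u : U}, u ≠ 1 → ∀ {g g' : X}, (∀ a, g • φ (φ.symm u * a) = g' • φ (φ.symm u * a)) →
      g = g' := fun {u} hu _ _ e => ext fun a => by simpa [n0 hu] using e ((φ.symm u)⁻¹ * a)
  refine ⟨{ carrier := {z | ∃ c, c ≠ 0 ∧ ∀ a, z • φ a = φ (c * a)}
            one_mem' := ⟨1, by simp⟩
            mul_mem' := fun ⟨c, h1, h2⟩ ⟨d, h3, h4⟩ => ⟨c * d, mul_ne_zero h1 h3, fun a => by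
              rw [mul_smul, h4, h2, mul_assoc]⟩
            inv_mem' := fun ⟨c, h1, h2⟩ => ⟨c⁻¹, inv_ne_zero h1, fun a => by
              simp [inv_smul_eq_iff, h2, h1]⟩ },
    fun z ⟨c, _, h2⟩ => by rw [← p0, h2, mul_zero],
    fun z ⟨c, _, h2⟩ z' ⟨d, _, h4⟩ => ext fun a => by simp only [mul_smul, h2, h4, mul_left_comm],
    fun y y1 z ⟨c, h1, h2⟩ => ?_, fun u v hu hv => ?_, fun u hu y y' a1 a2 a3 a4 => ?_,
    fun u hu y a1 a2 hp hy g a3 a4 v a5 v1 vu => ?_⟩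
  · obtain ⟨c', h3⟩ := nm y y1 c
    have h4 : ∀ a, (y * z * y⁻¹) • φ a = φ (c' * a) := fun a => by
      rw [mul_smul, mul_smul, ← φ.apply_symm_apply (y⁻¹ • φ a), h2]
      exact h3 _ _ (by simp)
    exact ⟨c', fun e => one_ne_zero (φ.injective (MulAction.injective _ (by
      simp only [h4, e, zero_mul] : (y * z * y⁻¹) • φ 1 = (y * z * y⁻¹) • φ 0))), h4⟩
  · obtain ⟨z, hz⟩ := sc _ (div_ne_zero (n0 hv) (n0 hu))
    exact ⟨z, ⟨_, div_ne_zero (n0 hv) (n0 hu), hz⟩, by simpa [n0 hu] using hz (φ.symm u)⟩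
  · obtain ⟨σ, h1⟩ := gal u hu y a1 a2
    obtain ⟨τ, h2⟩ := gal u hu y' a3 a4
    refine ext' hu fun a => ?_
    simp only [mul_smul, h1, h2, ← AlgEquiv.mul_apply]
    rw [(IsCyclic.commutative (α := F ≃ₐ[ZMod 2] F)).is_comm.comm]
  · obtain ⟨σ, h1⟩ := gal u hu y a1 a2
    obtain ⟨τ, h2⟩ := gal u hu g a3 a4
    have h3 : ∀ (n : ℕ) x, y ^ n • φ (φ.symm u * x) = φ (φ.symm u * (σ ^ n) x) := fun n => by
      induction n with
      | zero => simp
      | succ n ih => simp [pow_succ, mul_smul, h1, ih]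
    have h4 : zpowers σ = ⊤ := by
      rw [← IntermediateField.fixingSubgroup_fixedField (zpowers σ), ← IntermediateField.fixingSubgroup_bot]
      congr 1
      refine eq_bot_iff.2 fun x hx => ?_
      rcases hy _ ((h1 x).trans (by rw [show σ x = x from hx ⟨σ, mem_zpowers σ⟩])) with e | e
      · rw [(mul_eq_zero.1 (φ.injective (e.trans p0.symm))).resolve_left (n0 hu)]
        exact zero_mem _
      · rw [mul_left_cancel₀ (n0 hu) ((φ.apply_eq_iff_eq_symm_apply.1 e).trans (mul_one _).symm)]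
        exact one_mem _
    have := Fact.mk hp
    have h5 : orderOf σ = orderOf y := orderOf_eq_prime (AlgEquiv.ext fun x => by
      simpa [n0 hu, eq_comm] using h3 (orderOf y) x) fun e => by
        rw [ext' hu (g := y) (g' := 1) (by simp [h1, e])] at hp
        simpa using hp.one_lt
    by_contra h6
    obtain ⟨k, hk⟩ := mem_powers_of_prime_card (p := orderOf y) (g := τ) (g' := σ) (by
      rw [← h5, ← Nat.card_zpowers, h4, card_top]) fun e => h6 (ext' hu (by simp [h2, e]))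
    have h7 := h2 ((φ.symm u)⁻¹ * φ.symm v)
    have h8 := h1 ((φ.symm u)⁻¹ * φ.symm v)
    rw [mul_inv_cancel_left₀ (n0 hu), φ.apply_symm_apply] at h7 h8
    have h9 : τ ((φ.symm u)⁻¹ * φ.symm v) = (φ.symm u)⁻¹ * φ.symm v := by
      rw [eq_inv_mul_iff_mul_eq₀ (n0 hu), ← φ.apply_eq_iff_eq_symm_apply, ← h7, a5]
    rw [← hk, show (τ ^ k) _ = _ from pow_mem (mem_stabilizer_iff.2 h9 : τ ∈ stabilizer _ _) k,
      mul_inv_cancel_left₀ (n0 hu), φ.apply_symm_apply] at h8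
    exact (hy v h8).elim v1 vu

end Cfsg.Lib.ZL
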